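import Mathlib
import Cfsg.Agent.Lib.H50.PSLSylow
import Cfsg.Agent.Lib.H57.QuotFus
import Cfsg.Agent.Lib.H57.Polar3
import Cfsg.Agent.Lib.H65.PBasic

/-!
The `p`-fusion system of `PSL_n(K)`, `n ≥ 3`, in the defining characteristic is simple.
-/

set_option autoImplicit false

namespace H57.FusSL

open Matrix H50.Tv H50.PSLBasic H50.PSLSylow H57.FusSimple H57.Polar3

variable {n : ℕ} {K : Type*} [Field K]

/-- standard basis -/
def e (i : Fin n) : Fin n → K := Pi.single i 1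

lemma e_apply (i j : Fin n) : (e i : Fin n → K) j = if j = i then 1 else 0 := by
  rw [e, Pi.single_apply]

lemma e_ne (i : Fin n) : (e i : Fin n → K) ≠ 0 := by
  intro h0
  have := congrFun h0 i
  rw [e_apply, if_pos rfl] at this
  exact one_ne_zero this

lemma dot_e (f : Fin n → K) (i : Fin n) : f ⬝ᵥ e i = f i := by simp [e]
lemma e_dot (f : Fin n → K) (i : Fin n) : e i ⬝ᵥ f = f i := by simp [e]

variable (n K) in
/-- the flag -/
def EE (k : ℕ) : Submodule K (Fin n → K) where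
  carrier := {x | ∀ i : Fin n, k ≤ i.1 → x i = 0}
  add_mem' {a b} ha hb := fun i hi => by rw [Pi.add_apply, ha i hi, hb i hi, add_zero]
  zero_mem' := fun i _ => rfl
  smul_mem' c a ha := fun i hi => by rw [Pi.smul_apply, ha i hi, smul_zero]

lemma mem_EE {k : ℕ} {x : Fin n → K} : x ∈ EE n K k ↔ ∀ i : Fin n, k ≤ i.1 → x i = 0 := Iff.rfl

lemma EE_mono {k l : ℕ} (hkl : k ≤ l) : EE n K k ≤ EE n K l := fun _ hx i hi => hx i (le_trans hkl hi)

lemma e_mem_EE {j : Fin n} {k : ℕ} (hj : j.1 < k) : (e j : Fin n → K) ∈ EE n K k := by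
  intro i hi
  rw [e_apply, if_neg]
  rintro rfl
  omega

lemma eq_sum (x : Fin n → K) : x = ∑ j, x j • (e j : Fin n → K) := by
  ext i
  rw [Finset.sum_apply, Finset.sum_eq_single i]
  · rw [Pi.smul_apply, e_apply, if_pos rfl]; simp
  · intro j _ hj
    rw [Pi.smul_apply, e_apply, if_neg (Ne.symm hj), smul_zero]
  · simp

lemma lin_EE (L : (Fin n → K) →ₗ[K] (Fin n → K)) (W : Submodule K (Fin n → K)) {k : ℕ}
    (hL : ∀ j : Fin n, j.1 < k → L (e j) ∈ W) {x : Fin n → K} (hx : x ∈ EE n K k) : L x ∈ W := by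
  rw [eq_sum x, map_sum]
  apply Submodule.sum_mem
  intro j _
  rw [map_smul]
  by_cases hj : j.1 < k
  · exact W.smul_mem _ (hL j hj)
  · rw [hx j (by omega), zero_smul]; exact W.zero_mem

/-- unitriangular -/
def PS (g : SpecialLinearGroup (Fin n) K) : Prop :=
  ∀ j : Fin n, (g : Matrix (Fin n) (Fin n) K) *ᵥ e j - e j ∈ EE n K j.1

lemma PS_sub {g : SpecialLinearGroup (Fin n) K} (hg : PS g) {k : ℕ} {x : Fin n → K} (hx : x ∈ EE n K (k + 1)) :
    (g : Matrix (Fin n) (Fin n) K) *ᵥ x - x ∈ EE n K k :=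
  lin_EE (mulVecLin (g : Matrix (Fin n) (Fin n) K) - LinearMap.id) (EE n K k) (k := k + 1)
    (fun j hj => EE_mono (by omega) (hg j)) hx

lemma PS_stab {g : SpecialLinearGroup (Fin n) K} (hg : PS g) {k : ℕ} {x : Fin n → K} (hx : x ∈ EE n K k) :
    (g : Matrix (Fin n) (Fin n) K) *ᵥ x ∈ EE n K k := by
  apply lin_EE (mulVecLin (g : Matrix (Fin n) (Fin n) K)) (EE n K k) (k := k) _ hx
  intro j hj
  have h1 := Submodule.add_mem _ (EE_mono hj.le (hg j)) (e_mem_EE hj)
  rw [sub_add_cancel] at h1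
  exact h1

lemma PS.mul {a b : SpecialLinearGroup (Fin n) K} (ha : PS a) (hb : PS b) : PS (a * b) := by
  intro j
  have h1 := Submodule.add_mem _ (PS_stab ha (hb j)) (ha j)
  rw [Matrix.mulVec_sub, sub_add_sub_cancel, Matrix.mulVec_mulVec] at h1
  rw [Matrix.SpecialLinearGroup.coe_mul]
  exact h1

lemma PS.one : PS (1 : SpecialLinearGroup (Fin n) K) := by
  intro j
  rw [Matrix.SpecialLinearGroup.coe_one, Matrix.one_mulVec, sub_self]
  exact Submodule.zero_mem _

lemma mul_act (a b : SpecialLinearGroup (Fin n) K) (x : Fin n → K) :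
    ((a * b : SpecialLinearGroup (Fin n) K) : Matrix (Fin n) (Fin n) K) *ᵥ x =
      (a : Matrix (Fin n) (Fin n) K) *ᵥ ((b : Matrix (Fin n) (Fin n) K) *ᵥ x) := by
  rw [Matrix.SpecialLinearGroup.coe_mul, Matrix.mulVec_mulVec]

lemma one_act (x : Fin n → K) : ((1 : SpecialLinearGroup (Fin n) K) : Matrix (Fin n) (Fin n) K) *ᵥ x = x := by
  rw [Matrix.SpecialLinearGroup.coe_one, Matrix.one_mulVec]

lemma inv_act (a : SpecialLinearGroup (Fin n) K) (x : Fin n → K) :
    ((a⁻¹ : SpecialLinearGroup (Fin n) K) : Matrix (Fin n) (Fin n) K) *ᵥ ((a : Matrix (Fin n) (Fin n) K) *ᵥ x) = x := by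
  rw [← mul_act, inv_mul_cancel, one_act]

lemma act_inv (a : SpecialLinearGroup (Fin n) K) (x : Fin n → K) :
    (a : Matrix (Fin n) (Fin n) K) *ᵥ (((a⁻¹ : SpecialLinearGroup (Fin n) K) : Matrix (Fin n) (Fin n) K) *ᵥ x) = x := by
  rw [← mul_act, mul_inv_cancel, one_act]

lemma ext_act {a b : SpecialLinearGroup (Fin n) K}
    (h : ∀ j, (a : Matrix (Fin n) (Fin n) K) *ᵥ e j = (b : Matrix (Fin n) (Fin n) K) *ᵥ e j) : a = b := by
  apply Subtype.ext
  ext i j
  have := congrFun (h j) i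
  simpa [e] using this

variable [Finite K]

instance : Finite (SpecialLinearGroup (Fin n) K) := by
  haveI := Fintype.ofFinite K
  exact Subtype.finite

variable (n K) in
/-- the unitriangular group -/
def S0 : Subgroup (SpecialLinearGroup (Fin n) K) := ofP (fun g => PS g) PS.one fun _ _ ha hb => ha.mul hb

lemma mem_S0 {g : SpecialLinearGroup (Fin n) K} : g ∈ S0 n K ↔ PS g := Iff.rfl

section
variable (p : ℕ) [Fact p.Prime] [CharP K p]

lemma isPGroup_S0 [NeZero n] : IsPGroup p (S0 n K) := by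
  rintro ⟨g, hg⟩
  refine ⟨n, Subtype.ext ?_⟩
  show g ^ p ^ n = 1
  have hg' := mem_S0.1 hg
  set N : Matrix (Fin n) (Fin n) K := (g : Matrix (Fin n) (Fin n) K) - 1 with hN
  have h1 : ∀ k : ℕ, ∀ x ∈ EE n K k, (N ^ k) *ᵥ x = 0 := by
    intro k
    induction k with
    | zero =>
      intro x hx
      have : x = 0 := by ext i; exact hx i (Nat.zero_le _)
      rw [this, Matrix.mulVec_zero]
    | succ k ih =>
      intro x hx
      rw [pow_succ, ← Matrix.mulVec_mulVec]
      apply ih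
      rw [hN, Matrix.sub_mulVec, Matrix.one_mulVec]
      exact PS_sub hg' hx
  have h2 : N ^ n = 0 := by
    ext i j
    have := congrFun (h1 n (e j) (e_mem_EE j.2)) i
    simpa [e] using this
  have h3 : (N + 1) ^ p ^ n = N ^ p ^ n + 1 ^ p ^ n :=
    add_pow_expChar_pow_of_commute p n (Commute.one_right N)
  have h4 : N ^ p ^ n = 0 := pow_eq_zero_of_le (Nat.lt_pow_self (Fact.out : p.Prime).one_lt).le h2
  rw [h4, one_pow, zero_add, hN, sub_add_cancel] at h3
  apply Subtype.ext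
  rw [Matrix.SpecialLinearGroup.coe_pow, h3, Matrix.SpecialLinearGroup.coe_one]

end

lemma PS_T {x f : Fin n → K} (hxf : f ⬝ᵥ x = 0) {k : ℕ} (hx : x ∈ EE n K k)
    (hf : ∀ j : Fin n, j.1 < k → f j = 0) : PS (T x f hxf) := by
  intro j
  rw [T_coe, tv_mulVec, add_sub_cancel_left, dot_e]
  by_cases hj : j.1 < k
  · rw [hf j hj, zero_smul]; exact Submodule.zero_mem _
  · exact EE_mono (by omega) (Submodule.smul_mem _ _ hx)

lemma e_dot_e {i j : Fin n} (hij : i ≠ j) (a : K) : (e j : Fin n → K) ⬝ᵥ (a • e i) = 0 := by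
  rw [e_dot, Pi.smul_apply, e_apply, if_neg (Ne.symm hij), smul_zero]

lemma PS_Tij {i j : Fin n} (hij : i < j) (a : K) : PS (T (a • e i) (e j) (e_dot_e hij.ne a)) := by
  apply PS_T (k := j.1) _ (Submodule.smul_mem _ _ (e_mem_EE hij))
  intro k hk
  rw [e_apply, if_neg]
  rintro rfl
  omega

/-- characterization of the flag -/
lemma mem_EE_succ {k : ℕ} (hk : k < n) {x : Fin n → K} :
    x ∈ EE n K (k + 1) ↔ ∀ s ∈ S0 n K, (s : Matrix (Fin n) (Fin n) K) *ᵥ x - x ∈ EE n K k := by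
  constructor
  · exact fun hx s hs => PS_sub (mem_S0.1 hs) hx
  · intro h j hj
    have hkj : (⟨k, hk⟩ : Fin n) < j := by rw [Fin.lt_def]; exact hj
    have h1 := h _ (mem_S0.2 (PS_Tij hkj 1)) ⟨k, hk⟩ le_rfl
    rw [T_coe, tv_mulVec, add_sub_cancel_left, e_dot, Pi.smul_apply, Pi.smul_apply, e_apply, if_pos rfl] at h1
    simpa using h1

/-- stabilizing the flag -/
def Stb (g : SpecialLinearGroup (Fin n) K) : Prop :=
  ∀ k ≤ n, ∀ x ∈ EE n K k, (g : Matrix (Fin n) (Fin n) K) *ᵥ x ∈ EE n K k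

lemma normalizer_stab {g : SpecialLinearGroup (Fin n) K} (hg : g ∈ Subgroup.normalizer (S0 n K : Set _)) :
    Stb g := by
  have key : ∀ k ≤ n, ∀ g, g ∈ Subgroup.normalizer (S0 n K : Set (SpecialLinearGroup (Fin n) K)) →
      ∀ x ∈ EE n K k, (g : Matrix (Fin n) (Fin n) K) *ᵥ x ∈ EE n K k := by
    intro k
    induction k with
    | zero =>
      intro _ g _ x hx
      have : x = 0 := by ext i; exact hx i (Nat.zero_le _)
      rw [this, Matrix.mulVec_zero]; exact Submodule.zero_mem _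
    | succ k ih =>
      intro hk g hg x hx
      rw [mem_EE_succ (by omega)] at hx ⊢
      intro s hs
      have h1 : g⁻¹ * s * g ∈ S0 n K := by
        have := (Subgroup.mem_normalizer_iff.1 (Subgroup.inv_mem _ hg) s).1 hs
        rwa [inv_inv] at this
      have h2 := ih (by omega) g hg _ (hx _ h1)
      rw [Matrix.mulVec_sub, mul_act, mul_act, act_inv] at h2
      exact h2
  exact fun k hk => key k hk g hg

lemma Stb.mul {a b : SpecialLinearGroup (Fin n) K} (ha : Stb a) (hb : Stb b) : Stb (a * b) := by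
  intro k hk x hx
  rw [mul_act]
  exact ha k hk _ (hb k hk x hx)

lemma Stb.inv {a : SpecialLinearGroup (Fin n) K} (ha : Stb a) : Stb a⁻¹ :=
  (ofP (fun g : SpecialLinearGroup (Fin n) K => Stb g)
    (fun k _ x hx => by rw [one_act]; exact hx) fun _ _ ha hb => ha.mul hb).inv_mem ha

lemma Stb.norm {g : SpecialLinearGroup (Fin n) K} (hg : Stb g) :
    g ∈ Subgroup.normalizer (S0 n K : Set (SpecialLinearGroup (Fin n) K)) := by
  apply Subgroup.mem_normalizer_fintype
  intro s hs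
  refine mem_S0.2 fun j => ?_
  have h1 := hg.inv (j.1 + 1) (by omega) _ (e_mem_EE (Nat.lt_succ_self j.1))
  have h2 := hg j.1 j.2.le _ (PS_sub (mem_S0.1 hs) h1)
  rw [Matrix.mulVec_sub, act_inv] at h2
  rw [mul_act, mul_act]
  exact h2

lemma PS.stb {g : SpecialLinearGroup (Fin n) K} (hg : PS g) : Stb g := fun _ _ _ hx => PS_stab hg hx

section
variable (p : ℕ) [Fact p.Prime] [CharP K p]

lemma mem_S0_of_stab {g : SpecialLinearGroup (Fin n) K} (hst : Stb g) {N : ℕ} (hN : g ^ p ^ N = 1) :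
    g ∈ S0 n K := by
  refine mem_S0.2 fun j => ?_
  have h1 := hst (j.1 + 1) (by omega) _ (e_mem_EE (Nat.lt_succ_self j.1))
  set a := ((g : Matrix (Fin n) (Fin n) K) *ᵥ e j) j with ha
  have h2 : (g : Matrix (Fin n) (Fin n) K) *ᵥ e j - a • e j ∈ EE n K j.1 := by
    intro i hi
    by_cases hij : i = j
    · subst hij
      rw [Pi.sub_apply, Pi.smul_apply, e_apply, if_pos rfl, ← ha]; simp
    · have : j.1 + 1 ≤ i.1 := by
        have : i.1 ≠ j.1 := fun h => hij (Fin.ext h)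
        omega
      rw [Pi.sub_apply, Pi.smul_apply, e_apply, if_neg hij, h1 i this]; simp
  have h3 : ∀ k : ℕ, ((g ^ k : SpecialLinearGroup (Fin n) K) : Matrix (Fin n) (Fin n) K) *ᵥ e j - a ^ k • e j ∈
      EE n K j.1 := by
    intro k
    induction k with
    | zero => rw [pow_zero, pow_zero, one_act, one_smul, sub_self]; exact Submodule.zero_mem _
    | succ k ih =>
      have h4 := hst j.1 j.2.le _ ih
      rw [Matrix.mulVec_sub, Matrix.mulVec_smul] at h4
      have h5 := Submodule.add_mem _ h4 (Submodule.smul_mem _ (a ^ k) h2)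
      rw [pow_succ', mul_act]
      convert h5 using 1
      rw [pow_succ, mul_smul, smul_sub]
      abel
  have h4 := h3 (p ^ N) j le_rfl
  rw [hN, one_act, Pi.sub_apply, Pi.smul_apply, e_apply, if_pos rfl, smul_eq_mul, mul_one, sub_eq_zero] at h4
  have h5 : (a - 1) ^ p ^ N = 0 := by
    rw [sub_pow_char_pow, ← h4, one_pow, sub_self]
  have h6 : a = 1 := sub_eq_zero.1 (pow_eq_zero_iff (pow_ne_zero _ (Fact.out : p.Prime).ne_zero) |>.1 h5)
  rw [h6, one_smul] at h2
  exact h2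

theorem exists_sylow [NeZero n] : ∃ S : Sylow p (SpecialLinearGroup (Fin n) K),
    (S : Subgroup (SpecialLinearGroup (Fin n) K)) = S0 n K := by
  obtain ⟨S, hS⟩ := (isPGroup_S0 (n := n) (K := K) p).exists_le_sylow
  refine ⟨S, le_antisymm ?_ hS⟩
  by_contra hne
  have h1 : (S0 n K).subgroupOf S < ⊤ := by
    rw [lt_top_iff_ne_top]
    intro htop
    apply hne
    rw [Subgroup.subgroupOf_eq_top] at htop
    exact htop
  haveI : Group.IsNilpotent S := S.isPGroup'.isNilpotent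
  have h2 := normalizerCondition_of_isNilpotent (G := S) _ h1
  obtain ⟨x, hx, hxn⟩ := Set.exists_of_ssubset h2
  have h3 : (x : SpecialLinearGroup (Fin n) K) ∈ Subgroup.normalizer (S0 n K : Set (SpecialLinearGroup (Fin n) K)) := by
    apply Subgroup.mem_normalizer_fintype
    intro y hy
    exact (Subgroup.mem_normalizer_iff.1 hx ⟨y, hS hy⟩).1 hy
  apply hxn
  obtain ⟨N, hN⟩ := S.isPGroup' x
  show (x : SpecialLinearGroup (Fin n) K) ∈ S0 n K
  exact mem_S0_of_stab p (normalizer_stab h3) (N := N) (by simpa using congrArg Subtype.val hN)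

/-! ### the two radicals are `p`-centric -/

lemma pow_one_of {c : K} {N : ℕ} (h : c ^ p ^ N = 1) : c = 1 := by
  have h5 : (c - 1) ^ p ^ N = 0 := by
    rw [sub_pow_char_pow, h, one_pow, sub_self]
  exact sub_eq_zero.1 (pow_eq_zero_iff (pow_ne_zero _ (Fact.out : p.Prime).ne_zero) |>.1 h5)

lemma pCentric_EL [Nontrivial (Fin n)] {x : Fin n → K} (hx : x ≠ 0) : PCentric p (EL x) := by
  intro y hy ⟨N, hN⟩
  have hyN : y ^ p ^ N = 1 := by rw [← hN]; exact pow_orderOf_eq_one y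
  have hcomm : ∀ f : Fin n → K, ∀ h : f ⬝ᵥ x = 0,
      tv x f = tv ((y : Matrix (Fin n) (Fin n) K) *ᵥ x)
        (f ᵥ* ((y⁻¹ : SpecialLinearGroup (Fin n) K) : Matrix (Fin n) (Fin n) K)) := by
    intro f hf
    rw [← conj_T]
    have h1 := Subgroup.mem_centralizer_iff.1 hy _ (T_mem_EL x f hf)
    have h2 : y * T x f hf * y⁻¹ = T x f hf := by rw [← h1]; group
    have h3 := congrArg (fun g : SpecialLinearGroup (Fin n) K => (g : Matrix (Fin n) (Fin n) K)) h2
    simp only [Matrix.SpecialLinearGroup.coe_mul, T_coe] at h3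
    exact h3.symm
  -- eigenvalue on `x`
  obtain ⟨f, hf0, hf⟩ := H50.Tv.exists_ne_zero_dotProduct_eq_zero x
  have hf' : f ⬝ᵥ x = 0 := by rw [dotProduct_comm]; exact hf
  obtain ⟨c, hc, h1, h2⟩ := tv_eq_tv_iff hx hf0 (hcomm f hf')
  have h3 : ∀ k : ℕ, ((y ^ k : SpecialLinearGroup (Fin n) K) : Matrix (Fin n) (Fin n) K) *ᵥ x = c ^ k • x := by
    intro k
    induction k with
    | zero => rw [pow_zero, pow_zero, one_act, one_smul]
    | succ k ih => rw [pow_succ', mul_act, ih, Matrix.mulVec_smul, h1, smul_smul, pow_succ]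
  have h4 := h3 (p ^ N)
  rw [hyN, one_act] at h4
  have h5 : c ^ p ^ N = 1 := by
    have h6 : (c ^ p ^ N - 1) • x = 0 := by rw [sub_smul, one_smul, ← h4, sub_self]
    exact sub_eq_zero.1 ((smul_eq_zero.1 h6).resolve_right hx)
  have h6 := pow_one_of p h5
  rw [h6, one_smul] at h1
  have h7 : ∀ f : Fin n → K, f ⬝ᵥ x = 0 → f ᵥ* (y : Matrix (Fin n) (Fin n) K) = f := by
    intro f hf
    have h8 := hcomm f hf
    rw [h1] at h8
    have h9 := tv_inj_left hx h8
    conv_lhs => rw [h9]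
    rw [Matrix.vecMul_vecMul, sl_inv_mul, Matrix.vecMul_one]
  obtain ⟨f, hf⟩ := eq_vecMulVec_of_left hx (M := (y : Matrix (Fin n) (Fin n) K) - 1) (fun f hf => by
    rw [Matrix.vecMul_sub, h7 f hf, Matrix.vecMul_one, sub_self])
  have h8 : (y : Matrix (Fin n) (Fin n) K) = tv x f := by
    rw [tv, ← hf]; abel
  refine ⟨f, ?_, h8⟩
  have h9 := Matrix.SpecialLinearGroup.det_coe y
  rw [h8, det_tv] at h9
  linear_combination h9

lemma pCentric_ER [Nontrivial (Fin n)] {f : Fin n → K} (hf : f ≠ 0) : PCentric p (ER f) := by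
  intro y hy ⟨N, hN⟩
  have hyN : y ^ p ^ N = 1 := by rw [← hN]; exact pow_orderOf_eq_one y
  have hcomm : ∀ x : Fin n → K, ∀ h : f ⬝ᵥ x = 0,
      tv x f = tv ((y : Matrix (Fin n) (Fin n) K) *ᵥ x)
        (f ᵥ* ((y⁻¹ : SpecialLinearGroup (Fin n) K) : Matrix (Fin n) (Fin n) K)) := by
    intro x hx
    rw [← conj_T]
    have h1 := Subgroup.mem_centralizer_iff.1 hy _ (T_mem_ER x f hx)
    have h2 : y * T x f hx * y⁻¹ = T x f hx := by rw [← h1]; group
    have h3 := congrArg (fun g : SpecialLinearGroup (Fin n) K => (g : Matrix (Fin n) (Fin n) K)) h2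
    simp only [Matrix.SpecialLinearGroup.coe_mul, T_coe] at h3
    exact h3.symm
  obtain ⟨x, hx0, hx⟩ := H50.Tv.exists_ne_zero_dotProduct_eq_zero f
  obtain ⟨c, hc, h1, h2⟩ := tv_eq_tv_iff hx0 hf (hcomm x hx)
  -- `f = c • f y⁻¹`, so `f y = c f`
  have h2' : f ᵥ* (y : Matrix (Fin n) (Fin n) K) = c • f := by
    conv_lhs => rw [h2]
    rw [Matrix.smul_vecMul, Matrix.vecMul_vecMul, sl_inv_mul, Matrix.vecMul_one]
  have h3 : ∀ k : ℕ, f ᵥ* ((y ^ k : SpecialLinearGroup (Fin n) K) : Matrix (Fin n) (Fin n) K) = c ^ k • f := by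
    intro k
    induction k with
    | zero => rw [pow_zero, pow_zero, Matrix.SpecialLinearGroup.coe_one, Matrix.vecMul_one, one_smul]
    | succ k ih =>
      rw [pow_succ, Matrix.SpecialLinearGroup.coe_mul, ← Matrix.vecMul_vecMul, ih, Matrix.smul_vecMul, h2', smul_smul,
        pow_succ]
  have h4 := h3 (p ^ N)
  rw [hyN, Matrix.SpecialLinearGroup.coe_one, Matrix.vecMul_one] at h4
  have h5 : c ^ p ^ N = 1 := by
    have h6 : (c ^ p ^ N - 1) • f = 0 := by rw [sub_smul, one_smul, ← h4, sub_self]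
    exact sub_eq_zero.1 ((smul_eq_zero.1 h6).resolve_right hf)
  have h6 := pow_one_of p h5
  rw [h6, one_smul] at h2
  have h7 : ∀ x : Fin n → K, f ⬝ᵥ x = 0 → (y : Matrix (Fin n) (Fin n) K) *ᵥ x = x := by
    intro x hx
    by_cases hx0 : x = 0
    · rw [hx0, Matrix.mulVec_zero]
    have h8 := hcomm x hx
    rw [← h2] at h8
    obtain ⟨c, hc, h9, h10⟩ := tv_eq_tv_iff hx0 hf h8
    have h11 : c = 1 := by
      obtain ⟨i, hi⟩ := exists_apply_ne_zero hf
      have := congrFun h10 i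
      rw [Pi.smul_apply, smul_eq_mul] at this
      exact mul_right_cancel₀ hi (by rw [one_mul]; exact this.symm)
    rw [h9, h11, one_smul]
  obtain ⟨x, hx⟩ := eq_vecMulVec_of_right hf (M := (y : Matrix (Fin n) (Fin n) K) - 1) (fun x hx => by
    rw [Matrix.sub_mulVec, h7 x hx, Matrix.one_mulVec, sub_self])
  have h8 : (y : Matrix (Fin n) (Fin n) K) = tv x f := by
    rw [tv, ← hx]; abel
  refine ⟨x, ?_, h8⟩
  have h9 := Matrix.SpecialLinearGroup.det_coe y
  rw [h8, det_tv] at h9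
  linear_combination h9

end

end H57.FusSL
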