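import Cfsg.Agent.Lib.H4.CA0
import Cfsg.Agent.Lib.H1.FpfNilp

/-! S4369, piece (B): a bad element lies in no abelian normal subgroup. -/

set_option autoImplicit false

namespace H57.CAB

open Subgroup H4.CA

universe u

theorem no_abelian_normal {G : Type u} [Group G] [Finite G] (h : F0 G) (A : Subgroup G)
    (hA : A.Normal) (hab : ∀ a ∈ A, ∀ b ∈ A, Commute a b) (x : G) (hx : x ∈ A) : ¬ Bad x := by
  intro hb
  let C : Subgroup G := centralizer ({x} : Set G)
  have hmC : ∀ y, y ∈ C ↔ Commute x y := by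
    intro y
    change y ∈ centralizer ({x} : Set G) ↔ _
    rw [mem_centralizer_singleton_iff]
    exact eq_comm
  let D : Subgroup G := centralizer (A : Set G)
  haveI hDn : D.Normal := by
    haveI := hA
    exact inferInstanceAs (centralizer (A : Set G)).Normal
  have hmD : ∀ y, y ∈ D ↔ ∀ a ∈ A, a * y = y * a := by
    intro y
    exact mem_centralizer_iff
  have hDC : D ≤ C := by
    intro y hy
    rw [hmC]
    exact (hmD y).1 hy x hx
  have hAC : A ≤ C := fun a ha => (hmC a).2 (hab x hx a ha)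
  -- `D` is solvable
  have hDs : Group.IsSolvable D := by
    by_contra hns
    apply hb.1
    apply h.cent D hDn hns
    rw [mem_centralizer_iff]
    intro d hd
    exact ((hmD d).1 hd x hx).symm
  have hCt : C ≠ ⊤ := by
    intro hC
    apply hb.1
    rw [mem_center_iff]
    intro g
    have : g ∈ C := by rw [hC]; exact mem_top _
    exact ((hmC g).1 this).symm
  have hlt : D < C := by
    refine lt_of_le_of_ne hDC ?_
    intro hDe
    apply hCt
    rw [eq_top_iff]
    intro g _
    rw [hmC]
    apply h.norm x hb g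
    intro y hy
    rw [← hmC, ← hDe] at hy ⊢
    exact hDn.conj_mem y hy g
  have key : ∀ H : Subgroup G, H ≠ ⊤ → A ≤ H → ∀ c ∈ H, c ∈ C → c ∉ D → H ≤ C := by
    intro H hH hAH c hcH hcC hcD y hy
    rw [hmD] at hcD
    push Not at hcD
    obtain ⟨a, ha, hne⟩ := hcD
    rw [hmC]
    exact h.ca H hH x (hAH hx) a (hAH ha) c hcH (hab x hx a ha) ((hmC c).1 hcC) hne y hy
  -- Frobenius
  let q : G →* G ⧸ D := QuotientGroup.mk' D
  have hqs : Function.Surjective q := QuotientGroup.mk'_surjective D
  have hq1 : ∀ g, q g = 1 ↔ g ∈ D := fun g => QuotientGroup.eq_one_iff g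
  have hqC : ∀ g, q g ∈ C.map q → g ∈ C := by
    rintro g ⟨c, hc, hcg⟩
    have h1 : c⁻¹ * g ∈ D := by
      rw [← hq1, map_mul, map_inv, hcg, inv_mul_cancel]
    have h2 : g = c * (c⁻¹ * g) := by group
    rw [h2]
    exact mul_mem hc (hDC h1)
  have hF : Cfsg.IsFrobeniusComplement (C.map q) := by
    refine ⟨?_, ?_, ?_⟩
    · intro h1
      rw [Subgroup.map_eq_bot_iff] at h1
      apply hlt.not_ge
      intro c hc
      exact (hq1 c).1 (h1 hc)
    · intro h1
      apply hCt
      rw [eq_top_iff]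
      intro g _
      apply hqC
      rw [h1]; exact mem_top _
    · intro gb hgb
      obtain ⟨g, rfl⟩ := hqs gb
      rw [eq_bot_iff]
      intro z hz12
      obtain ⟨hz1, hz2⟩ := mem_inf.1 hz12
      rw [mem_bot]
      obtain ⟨c1, hc1, hz⟩ : ∃ c1 : G, c1 ∈ C.map (MulAut.conj g).toMonoidHom ∧ q c1 = z := by
        rw [mem_smul_pointwise_iff_exists] at hz2
        obtain ⟨w, ⟨c, hc, rfl⟩, hw⟩ := hz2
        refine ⟨g * c * g⁻¹, ⟨c, hc, rfl⟩, ?_⟩
        rw [← hw]
        simp [MulAut.smul_def]
      have hc1C : c1 ∈ C := hqC c1 (by rw [hz]; exact hz1)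
      by_contra hne
      have hc1D : c1 ∉ D := fun hd => hne (by rw [← hz]; exact (hq1 c1).2 hd)
      have hle := key (C.map (MulAut.conj g).toMonoidHom) (by
        intro ht
        apply hCt
        rw [eq_top_iff]
        intro y _
        have hy : g * y * g⁻¹ ∈ C.map (MulAut.conj g).toMonoidHom := by rw [ht]; exact mem_top _
        obtain ⟨c, hc, hcy⟩ := hy
        have h2 : c = y := (MulAut.conj g).injective hcy
        rw [← h2]; exact hc) (by
        intro a ha
        refine ⟨g⁻¹ * a * g, hAC ?_, ?_⟩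
        · have := hA.conj_mem a ha g⁻¹
          rwa [inv_inv] at this
        · change g * (g⁻¹ * a * g) * g⁻¹ = a
          group) c1 hc1 hc1C hc1D
      apply hgb
      refine ⟨g, ?_, rfl⟩
      rw [SetLike.mem_coe, hmC]
      apply h.norm x hb g
      intro y hy
      rw [← hmC]
      exact hle ⟨y, (hmC y).2 hy, rfl⟩
  obtain ⟨N, -, hNn, hNc, hNil⟩ := H1.FpfNilp.frobeniusKernel_nilpotent hF
  haveI := hNn
  let K : Subgroup G := N.comap q
  haveI hKn : K.Normal := hNn.comap q
  have hDK : D ≤ K := by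
    intro d hd
    change q d ∈ N
    rw [(hq1 d).2 hd]; exact one_mem _
  have hAD : A ≤ D := by
    intro a ha
    rw [hmD]
    intro b hb'
    exact hab b hb' a ha
  have hKs : Group.IsSolvable K := by
    haveI := hDs
    haveI : Group.IsSolvable N := by
      haveI := hNil
      infer_instance
    let f : K →* N := (q.comp K.subtype).codRestrict N (fun k => k.2)
    refine Group.isSolvable_of_ker_le_range (f := inclusion hDK) (g := f) ?_
    intro k hk
    have h1 : q (k : G) = 1 := congrArg Subtype.val (MonoidHom.mem_ker.1 hk)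
    exact ⟨⟨k, (hq1 _).1 h1⟩, rfl⟩
  obtain ⟨c, hcC, hcD⟩ := SetLike.exists_of_lt hlt
  have htop : K ⊔ zpowers c = ⊤ := by
    by_contra hne
    have h1 := key (K ⊔ zpowers c) hne ((hAD.trans hDK).trans le_sup_left) c
      (le_sup_right (a := K) (mem_zpowers c)) hcC hcD
    have h2 : K ≤ C := le_sup_left.trans h1
    have h3 : N ≤ C.map q := by
      intro n hn
      obtain ⟨g, rfl⟩ := hqs n
      exact ⟨g, h2 hn, rfl⟩
    apply hF.2.1
    have h4 := hNc.sup_eq_top
    rwa [sup_eq_right.2 h3] at h4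
  apply h.ns
  have hcyc : ∀ y : G ⧸ K, y ∈ zpowers (QuotientGroup.mk' K c) := by
    intro y
    obtain ⟨g, rfl⟩ := QuotientGroup.mk'_surjective K y
    have h1 : g ∈ K ⊔ zpowers c := by rw [htop]; exact mem_top _
    have h2 : QuotientGroup.mk' K g ∈ (K ⊔ zpowers c).map (QuotientGroup.mk' K) := ⟨g, h1, rfl⟩
    rw [Subgroup.map_sup, QuotientGroup.map_mk'_self, bot_sup_eq, MonoidHom.map_zpowers] at h2
    exact h2
  have hGK : Group.IsSolvable (G ⧸ K) := by
    apply Group.isSolvable_of_comm
    intro a b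
    obtain ⟨i, rfl⟩ := hcyc a
    obtain ⟨j, rfl⟩ := hcyc b
    rw [← zpow_add, ← zpow_add, add_comm]
  haveI := hKs
  haveI := hGK
  refine Group.isSolvable_of_ker_le_range (f := K.subtype) (g := QuotientGroup.mk' K) ?_
  rw [QuotientGroup.ker_mk', Subgroup.range_subtype]

end H57.CAB
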