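import Cfsg.Agent.Lib.H57.FrStep

set_option autoImplicit false

/-!
FRAMES (helper96), piece P1c.
-/

open Matrix H96.Fr

namespace H57.FrC

open H57.FrStep

variable {ι F : Type*} [Fintype ι] [DecidableEq ι] [Field F] {K : Subgroup ((ι → F) ≃ₗ[F] (ι → F))}

lemma self_neg (h2 : (2:F) ≠ 0) {a : F} (h : a = - a) : a = 0 := by
  have h3 : 2 * a = 0 := by rw [two_mul]; nth_rewrite 1 [h]; simp
  rcases mul_eq_zero.1 h3 with h3 | h3
  · exact absurd h3 h2
  · exact h3

lemma eq_sum (v : ι → F) : v = ∑ k, v k • (e k : ι → F) := by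
  funext l
  rw [Finset.sum_apply]
  simp [e_apply]

lemma fix_of_supp {S : Finset ι} {x : (ι → F) ≃ₗ[F] (ι → F)} (hx : ∀ j ∈ S, x (e j) = e j)
    {v : ι → F} (hv : ∀ l, l ∉ S → v l = 0) : x v = v := by
  conv_lhs => rw [eq_sum v]
  conv_rhs => rw [eq_sum v]
  rw [map_sum]
  apply Finset.sum_congr rfl
  intro k _
  rw [map_smul]
  by_cases hk : k ∈ S
  · rw [hx k hk]
  · rw [hv k hk, zero_smul, zero_smul]

lemma in_S (h2 : (2:F) ≠ 0) {S : Finset ι} {d g : (ι → F) ≃ₗ[F] (ι → F)}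
    (hd : ∀ x m, d x m = if m ∈ S then - x m else x m) (hc : g * d = d * g)
    {k : ι} (hk : k ∈ S) {l : ι} (hl : l ∉ S) : g (e k) l = 0 := by
  have h1 : d (e k) = (- e k : ι → F) := by
    funext m
    rw [hd, Pi.neg_apply]
    by_cases hm : m ∈ S
    · rw [if_pos hm]
    · rw [if_neg hm, e_apply, if_neg (fun h : m = k => hm (h ▸ hk))]; simp
  have h3 : d (g (e k)) = - g (e k) := by
    rw [← LinearEquiv.mul_apply, ← hc, LinearEquiv.mul_apply, h1, map_neg]
  have h4 := congrFun h3 l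
  rw [hd, if_neg hl, Pi.neg_apply] at h4
  exact self_neg h2 h4

lemma in_R (h2 : (2:F) ≠ 0) {S : Finset ι} {d g : (ι → F) ≃ₗ[F] (ι → F)}
    (hd : ∀ x m, d x m = if m ∈ S then - x m else x m) (hc : g * d = d * g)
    {k : ι} (hk : k ∉ S) {l : ι} (hl : l ∈ S) : g (e k) l = 0 := by
  have h1 : d (e k) = (e k : ι → F) := by
    funext m
    rw [hd]
    by_cases hm : m ∈ S
    · rw [if_pos hm, e_apply, if_neg (fun h : m = k => hk (h ▸ hm))]; simp
    · rw [if_neg hm]
  have h3 : d (g (e k)) = g (e k) := by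
    rw [← LinearEquiv.mul_apply, ← hc, LinearEquiv.mul_apply, h1]
  have h4 := congrFun h3 l
  rw [hd, if_pos hl] at h4
  exact self_neg h2 h4.symm

lemma sup_conj (h2 : (2:F) ≠ 0) {S : Finset ι} {d g : (ι → F) ≃ₗ[F] (ι → F)}
    (hd : ∀ x m, d x m = if m ∈ S then - x m else x m) (hc : g * d = d * g)
    {x : (ι → F) ≃ₗ[F] (ι → F)} (hx : Sup x Sᶜ) : Sup (g * x * g⁻¹) Sᶜ := by
  intro j hj
  have hjS : j ∈ S := by simpa using hj
  have hc' : g⁻¹ * d = d * g⁻¹ := by
    rw [inv_mul_eq_iff_eq_mul, ← mul_assoc, hc, mul_inv_cancel_right]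
  rw [LinearEquiv.mul_apply, LinearEquiv.mul_apply]
  rw [fix_of_supp (S := S) (x := x) (fun k hk => hx k (by simpa using hk))
    (fun l hl => in_S h2 hd hc' hjS hl)]
  rw [← LinearEquiv.mul_apply, mul_inv_cancel]
  rfl

/-- the form in which `norm_lem` is used -/
def NL (K : Subgroup ((ι → F) ≃ₗ[F] (ι → F))) : Prop :=
  ∀ g ∈ K, ∀ R : Finset ι, (R.card = 3 ∨ 5 ≤ R.card) → (∀ x ∈ K, Sup x R → Mon x) →
    (∀ x ∈ K, Sup x R → Sup (g * x * g⁻¹) R) → (∀ x ∈ K, Sup x R → Sup (g⁻¹ * x * g) R) →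
    ∀ j ∈ R, ∃ k ∈ R, g (e j) = e k ∨ g (e j) = - e k

lemma main (D : Dat K) (h2 : (2:F) ≠ 0) (hNL : NL K) {S : Finset ι} {d g : (ι → F) ≃ₗ[F] (ι → F)}
    (hd : ∀ x m, d x m = if m ∈ S then - x m else x m) (hg : g ∈ K) (hc : g * d = d * g)
    (hS : 2 ≤ S.card) (hR : Sᶜ.card = 3 ∨ 5 ≤ Sᶜ.card) (hmS : ∀ x ∈ K, Sup x S → Mon x)
    (hmR : ∀ x ∈ K, Sup x Sᶜ → Mon x) : Mon g := by
  have hc' : g⁻¹ * d = d * g⁻¹ := by
    rw [inv_mul_eq_iff_eq_mul, ← mul_assoc, hc, mul_inv_cancel_right]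
  have h := hNL g hg Sᶜ hR hmR (fun x _ hx => sup_conj h2 hd hc hx)
    (fun x _ hx => by
      have := sup_conj h2 hd hc' hx
      rwa [inv_inv] at this)
  apply step0 D h2 hg hS _ hmS
  intro j hj
  obtain ⟨k, -, hk⟩ := h j (by simpa using hj)
  exact ⟨k, hk⟩

lemma sgd {i j : ι} : ∀ (x : ι → F) m, sg i j x m = if m ∈ ({i, j} : Finset ι) then - x m else x m := by
  intro x m
  rw [sg_apply]
  simp

lemma sgd4 {i j k l : ι} (h : [i, j, k, l].Nodup) : ∀ (x : ι → F) m,
    (sg i j * sg k l : (ι → F) ≃ₗ[F] (ι → F)) x m =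
      if m ∈ ({i, j, k, l} : Finset ι) then - x m else x m := by
  intro x m
  rw [LinearEquiv.mul_apply, sg_apply, sg_apply]
  simp only [List.nodup_cons, List.mem_cons, List.not_mem_nil, or_false, not_or, List.nodup_nil,
    not_false_eq_true, and_true] at h
  obtain ⟨⟨hij, hik, hil⟩, ⟨hjk, hjl⟩, hkl⟩ := h
  by_cases h1 : m = i
  · subst h1; simp [hik, hil]
  by_cases h3 : m = j
  · subst h3; simp [hjk, hjl]
  by_cases h4 : m = k
  · subst h4; simp [h1, h3]
  by_cases h5 : m = l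
  · subst h5; simp [h1, h3]
  simp [h1, h3, h4, h5]

theorem c2' (D : Dat K) (h2 : (2:F) ≠ 0) (hNL : NL K) {r : ℕ} (hr : MonLe K r)
    (hN : (Fintype.card ι = 5 ∧ 3 ≤ r) ∨ (Fintype.card ι = 7 ∧ 5 ≤ r) ∨
      (7 ≤ Fintype.card ι ∧ Fintype.card ι ≤ r + 2)) : C2 K := by
  intro g hg i j hij hc
  have hS : ({i, j} : Finset ι).card = 2 := Finset.card_pair hij
  have hRc : ({i, j} : Finset ι)ᶜ.card = Fintype.card ι - 2 := by rw [Finset.card_compl, hS]
  apply main D h2 hNL (S := {i, j}) sgd hg hc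
  · omega
  · omega
  · intro x hx hs; exact hr x hx _ (by omega) hs
  · intro x hx hs; exact hr x hx _ (by omega) hs

theorem c4' (D : Dat K) (h2 : (2:F) ≠ 0) (hNL : NL K) {r : ℕ} (hr : MonLe K r)
    (hN : (Fintype.card ι = 5 ∧ 4 ≤ r) ∨ (Fintype.card ι = 7 ∧ 5 ≤ r) ∨
      (9 ≤ Fintype.card ι ∧ Fintype.card ι ≤ r + 2)) : C4 K := by
  intro g hg i j k l hn hc
  have hS : ({i, j, k, l} : Finset ι).card = 4 := by
    have := List.toFinset_card_of_nodup hn
    simpa using this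
  have hRc : ({i, j, k, l} : Finset ι)ᶜ.card = Fintype.card ι - 4 := by rw [Finset.card_compl, hS]
  by_cases hN5 : Fintype.card ι = 5
  · have h1 : ({i, j, k, l} : Finset ι)ᶜ.card = 1 := by omega
    obtain ⟨m, hm⟩ := Finset.card_eq_one.1 h1
    apply step0 D h2 hg (I := {i, j, k, l}) (by omega)
    · intro a ha
      have ham : a = m := by
        have : a ∈ ({i, j, k, l} : Finset ι)ᶜ := by rw [Finset.mem_compl]; exact ha
        rw [hm] at this
        simpa using this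
      subst ham
      have hv : g (e a) = (g (e a) a) • (e a : ι → F) := by
        funext b
        rw [Pi.smul_apply, e_apply, smul_eq_mul]
        by_cases hb : b = a
        · subst hb; simp
        · rw [if_neg hb, mul_zero]
          have hbS : b ∈ ({i, j, k, l} : Finset ι) := by
            by_contra hb'
            have : b ∈ ({i, j, k, l} : Finset ι)ᶜ := by rw [Finset.mem_compl]; exact hb'
            rw [hm] at this
            exact hb (by simpa using this)
          exact in_R h2 (sgd4 hn) hc ha hbS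
      have hi := D.iso g hg (e a) (e a)
      rw [hv, smul_dotProduct, dotProduct_smul] at hi
      have he : (e a : ι → F) ⬝ᵥ e a = 1 := by
        rw [dotProduct]
        simp [e_apply]
      rw [he, smul_eq_mul, smul_eq_mul, mul_one, mul_self_eq_one_iff] at hi
      refine ⟨a, ?_⟩
      rcases hi with hi | hi
      · left; rw [hv, hi, one_smul]
      · right; rw [hv, hi, neg_smul, one_smul]
    · intro x hx hs; exact hr x hx _ (by omega) hs
  · apply main D h2 hNL (S := {i, j, k, l}) (sgd4 hn) hg hc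
    · omega
    · omega
    · intro x hx hs; exact hr x hx _ (by omega) hs
    · intro x hx hs; exact hr x hx _ (by omega) hs

end H57.FrC
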