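import Cfsg.Agent.Lib.H96.FrDef

set_option autoImplicit false

/-!
FRAMES (helper96), piece P1a.
-/

open Matrix H96.Fr

namespace H57.FrStep

variable {ι F : Type*} [Fintype ι] [DecidableEq ι] [Field F] {K : Subgroup ((ι → F) ≃ₗ[F] (ι → F))}

omit [Fintype ι] in
lemma e_apply (i j : ι) : (e i : ι → F) j = if j = i then 1 else 0 := by
  simp [e, Pi.single_apply]

omit [Fintype ι] in
lemma e_inj (h2 : (2:F) ≠ 0) {i j : ι} (h : (e i : ι → F) = e j ∨ (e i : ι → F) = - e j) : i = j := by
  by_contra hij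
  rcases h with h | h
  · have := congrFun h i
    rw [e_apply, e_apply, if_pos rfl, if_neg hij] at this
    exact one_ne_zero this
  · have := congrFun h i
    rw [Pi.neg_apply, e_apply, e_apply, if_pos rfl, if_neg hij] at this
    simp at this

omit [Fintype ι] in
lemma e_ne_neg (h2 : (2:F) ≠ 0) (i : ι) : (e i : ι → F) ≠ - e i := by
  intro h
  have := congrFun h i
  rw [Pi.neg_apply, e_apply, if_pos rfl] at this
  apply h2
  have h3 : (1:F) + 1 = 0 := by nth_rewrite 1 [this]; simp
  rw [← h3]; norm_num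

lemma sg_e (i j k : ι) : sg i j (e k : ι → F) = if k = i ∨ k = j then - e k else e k := by
  funext l
  rw [sg_apply]
  by_cases hk : k = i ∨ k = j
  · rw [if_pos hk, Pi.neg_apply]
    by_cases hl : l = k
    · subst hl; rw [if_pos hk]
    · rw [e_apply, if_neg hl]; simp
  · rw [if_neg hk]
    by_cases hl : l = k
    · subst hl; rw [if_neg hk]
    · rw [e_apply, if_neg hl]; simp

lemma sg_sg (i j : ι) : (sg i j : (ι → F) ≃ₗ[F] (ι → F)) * sg i j = 1 := by
  apply LinearEquiv.ext
  intro x
  exact sgm_sgm i j x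

lemma pm_inv_e (σ : Equiv.Perm ι) (i : ι) : (pm σ)⁻¹ (e (σ i)) = (e i : ι → F) := by
  rw [← pm_e σ i]
  exact (pm σ).symm_apply_apply _

lemma mon_sg (i j : ι) {x : (ι → F) ≃ₗ[F] (ι → F)} (hx : Mon x) : Mon (x * sg i j) := by
  intro k
  obtain ⟨l, hl⟩ := hx k
  refine ⟨l, ?_⟩
  rw [LinearEquiv.mul_apply, sg_e]
  by_cases hk : k = i ∨ k = j
  · rw [if_pos hk, map_neg]
    rcases hl with hl | hl
    · right; rw [hl]
    · left; rw [hl, neg_neg]
  · rw [if_neg hk]; exact hl

open Classical in
lemma signs (D : Dat K) {I : Finset ι} {i0 : ι} (hi0 : i0 ∈ I)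
    (hm : ∀ x ∈ K, Sup x I → Mon x) (n : ℕ) :
    ∀ x ∈ K, (∀ j, j ∉ I → x (e j) = e j ∨ x (e j) = - e j) →
      (Finset.univ.filter (fun j => j ∉ I ∧ x (e j) ≠ (e j : ι → F))).card = n → Mon x := by
  induction n with
  | zero =>
    intro x hx hj hc
    apply hm x hx
    intro j hjI
    by_contra hne
    rw [Finset.card_eq_zero] at hc
    have : j ∈ Finset.univ.filter (fun j => j ∉ I ∧ x (e j) ≠ (e j : ι → F)) := by
      simp [hjI, hne]
    rw [hc] at this
    simp at this
  | succ n ih =>
    intro x hx hj hc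
    have hne : (Finset.univ.filter (fun j => j ∉ I ∧ x (e j) ≠ (e j : ι → F))).Nonempty := by
      rw [← Finset.card_pos]; omega
    obtain ⟨j, hjm⟩ := hne
    rw [Finset.mem_filter] at hjm
    obtain ⟨-, hjI, hjne⟩ := hjm
    have hji0 : j ≠ i0 := fun h => hjI (h ▸ hi0)
    have hxj : x (e j) = - e j := (hj j hjI).resolve_left hjne
    set x' := x * sg j i0 with hx'
    have hx'K : x' ∈ K := K.mul_mem hx (D.sg j i0 hji0)
    have hval : ∀ k, k ∉ I → k ≠ j → x' (e k) = x (e k) := by
      intro k hk hkj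
      have : ¬ (k = j ∨ k = i0) := by
        rintro (h | h)
        · exact hkj h
        · exact hk (h ▸ hi0)
      rw [hx', LinearEquiv.mul_apply, sg_e, if_neg this]
    have hvj : x' (e j) = e j := by
      rw [hx', LinearEquiv.mul_apply, sg_e, if_pos (Or.inl rfl), map_neg, hxj, neg_neg]
    have hM : Mon x' := by
      apply ih x' hx'K
      · intro k hk
        by_cases hkj : k = j
        · subst hkj; left; exact hvj
        · rw [hval k hk hkj]; exact hj k hk
      · have hs : Finset.univ.filter (fun k => k ∉ I ∧ x (e k) ≠ (e k : ι → F)) =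
            insert j (Finset.univ.filter (fun k => k ∉ I ∧ x' (e k) ≠ (e k : ι → F))) := by
          ext k
          simp only [Finset.mem_filter, Finset.mem_univ, true_and, Finset.mem_insert]
          constructor
          · rintro ⟨h1, h3⟩
            by_cases hkj : k = j
            · left; exact hkj
            · right; refine ⟨h1, ?_⟩; rw [hval k h1 hkj]; exact h3
          · rintro (h1 | ⟨h1, h3⟩)
            · subst h1; exact ⟨hjI, hjne⟩
            · refine ⟨h1, ?_⟩
              by_cases hkj : k = j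
              · subst hkj; exact hjne
              · rw [← hval k h1 hkj]; exact h3
        have hnot : j ∉ Finset.univ.filter (fun k => k ∉ I ∧ x' (e k) ≠ (e k : ι → F)) := by
          simp [hvj]
        rw [hs, Finset.card_insert_of_notMem hnot] at hc
        omega
    have hxe : x = x' * sg j i0 := by
      rw [hx', mul_assoc, sg_sg, mul_one]
    rw [hxe]
    exact mon_sg j i0 hM

theorem step0 (D : Dat K) (h2 : (2:F) ≠ 0) {g : (ι → F) ≃ₗ[F] (ι → F)} (hg : g ∈ K) {I : Finset ι}
    (hI : 2 ≤ I.card) (h : ∀ j, j ∉ I → ∃ k, g (e j) = e k ∨ g (e j) = - e k)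
    (hm : ∀ x ∈ K, Sup x I → Mon x) : Mon g := by
  classical
  choose f hf using h
  let f' : {j // j ∉ I} → ι := fun j => f j.1 j.2
  have hf' : Function.Injective f' := by
    intro a b hab
    have ha := hf a.1 a.2
    have hb := hf b.1 b.2
    have hab' : f a.1 a.2 = f b.1 b.2 := hab
    rw [← hab'] at hb
    apply Subtype.ext
    apply e_inj h2 (F := F)
    rcases ha with ha | ha <;> rcases hb with hb | hb
    · left; exact g.injective (ha.trans hb.symm)
    · right; apply g.injective; rw [map_neg, ha, hb, neg_neg]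
    · right; apply g.injective; rw [map_neg, ha, hb]
    · left; exact g.injective (ha.trans hb.symm)
  let E : {j // j ∉ I} ≃ {k // k ∈ Set.range f'} := Equiv.ofInjective f' hf'
  let π₀ : Equiv.Perm ι := E.extendSubtype
  have hπ₀ : ∀ j (hj : j ∉ I), π₀ j = f j hj := by
    intro j hj
    exact Equiv.extendSubtype_apply_of_mem E j hj
  obtain ⟨a, ha, b, hb, hab⟩ := Finset.one_lt_card.1 (show 1 < I.card by omega)
  obtain ⟨π, hπs, hπ⟩ : ∃ π : Equiv.Perm ι, Equiv.Perm.sign π = 1 ∧ ∀ j (hj : j ∉ I), π j = f j hj := by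
    rcases Int.units_eq_one_or (Equiv.Perm.sign π₀) with hs | hs
    · exact ⟨π₀, hs, hπ₀⟩
    · refine ⟨π₀ * Equiv.swap a b, ?_, ?_⟩
      · rw [Equiv.Perm.sign_mul, hs, Equiv.Perm.sign_swap hab]; simp
      · intro j hj
        rw [Equiv.Perm.mul_apply, Equiv.swap_apply_of_ne_of_ne, hπ₀ j hj]
        · rintro rfl; exact hj ha
        · rintro rfl; exact hj hb
  have hpm : (pm π : (ι → F) ≃ₗ[F] (ι → F)) ∈ K := D.pm π hπs
  set x := (pm π)⁻¹ * g with hx
  have hxK : x ∈ K := K.mul_mem (K.inv_mem hpm) hg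
  have hxe : ∀ j, j ∉ I → x (e j) = e j ∨ x (e j) = - e j := by
    intro j hj
    have h3 := hf j hj
    rw [← hπ j hj] at h3
    rcases h3 with h3 | h3
    · left; rw [hx, LinearEquiv.mul_apply, h3, pm_inv_e]
    · right; rw [hx, LinearEquiv.mul_apply, h3, map_neg, pm_inv_e]
  have hM : Mon x := signs D ha hm _ x hxK hxe rfl
  have hgx : g = pm π * x := by rw [hx, mul_inv_cancel_left]
  intro i
  obtain ⟨j, hj⟩ := hM i
  refine ⟨π j, ?_⟩
  rw [hgx, LinearEquiv.mul_apply]
  rcases hj with hj | hj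
  · left; rw [hj, pm_e]
  · right; rw [hj, map_neg, pm_e]

end H57.FrStep
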