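import Cfsg.Agent.Lib.H57.Mc6
import Mathlib.GroupTheory.RegularWreathProduct

/-!
A group of maximal class and order `p^(p+1)` does not have exponent `p` (`p` odd).
-/

set_option autoImplicit false

namespace H57.Mc

open Subgroup H67.HallPetrescu
open scoped commutatorElement

/-- iterated commutators `[y,s,…,s]` -/
def rr {G : Type*} [Group G] (y s : G) : ℕ → G
  | 0 => ⁅y, s⁆
  | k + 1 => ⁅rr y s k, s⁆

section TwoGen

variable {Pi0 : Type*} [Group Pi0]

theorem normal_between {A B N : Subgroup Pi0} (hA : ∀ x ∈ A, ∀ g : Pi0, ⁅g, x⁆ ∈ B) (hB : B ≤ N) (hN : N ≤ A) : N.Normal := by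
  constructor
  intro x hx g
  have h1 : g * x * g⁻¹ = ⁅g, x⁆ * x := by rw [commutatorElement_def]; group
  rw [h1]
  exact mul_mem (hB (hA x (hN hx) g)) hx

theorem lcs_two (F : ℕ → Subgroup Pi0) (hF : Antitone F) (hFc : ∀ i x, x ∈ F i → ∀ g : Pi0, ⁅x, g⁆ ∈ F (i + 1))
    (hF1 : F 1 = ⊤) {σ η : Pi0} (q : ℕ) (hr : ∀ k, k < q → ⁅rr η σ k, η⁆ ∈ F (k + 4)) :
    ∀ k, k ≤ q → (closure ({η, σ} : Set Pi0)).lowerCentralSeries (k + 1) ≤ zpowers (rr η σ k) ⊔ F (k + 3) := by
  have hFc' : ∀ i x, x ∈ F i → ∀ g : Pi0, ⁅g, x⁆ ∈ F (i + 1) := by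
    intro i x hx g
    rw [← commutatorElement_inv]; exact inv_mem (hFc i x hx g)
  have hrF : ∀ k, rr η σ k ∈ F (k + 2) := by
    intro k
    induction k with
    | zero => exact hFc 1 _ (by rw [hF1]; exact mem_top _) _
    | succ k ih => exact hFc _ _ ih _
  intro k
  induction k with
  | zero =>
    intro _
    set N := zpowers (rr η σ 0) ⊔ F 3 with hNdef
    haveI hN : N.Normal := normal_between (A := F 2) (B := F 3) (fun x hx g => hFc' 2 x hx g) le_sup_right
      (sup_le ((zpowers_le).2 (hrF 0)) (hF (by omega)))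
    have hb : ⁅η, σ⁆ ∈ N := le_sup_left (b := F 3) (mem_zpowers _)
    have h1 : closure ({η, σ} : Set Pi0) ≤ CM N σ := by
      rw [closure_le]
      rintro z (rfl | rfl)
      · exact hb
      · show ⁅z, z⁆ ∈ N; rw [commutatorElement_self]; exact one_mem _
    have h2 : closure ({η, σ} : Set Pi0) ≤ CM N η := by
      rw [closure_le]
      rintro z (rfl | rfl)
      · show ⁅z, z⁆ ∈ N; rw [commutatorElement_self]; exact one_mem _
      · exact comm_symm hb
    rw [Subgroup.lowerCentralSeries_succ, Subgroup.lowerCentralSeries_zero, Subgroup.commutator_le]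
    intro a ha b hb'
    have h3 : closure ({η, σ} : Set Pi0) ≤ CM N b := by
      rw [closure_le]
      rintro z (rfl | rfl)
      · exact comm_symm (mem_CM.1 (h2 hb'))
      · exact comm_symm (mem_CM.1 (h1 hb'))
    exact h3 ha
  | succ k ih =>
    intro hk
    have ih := ih (by omega)
    set N := zpowers (rr η σ (k + 1)) ⊔ F (k + 1 + 3) with hNdef
    haveI hN : N.Normal := normal_between (A := F (k + 3)) (B := F (k + 4)) (fun x hx g => hFc' _ x hx g) le_sup_right
      (sup_le ((zpowers_le).2 (hrF (k + 1))) (hF (by omega)))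
    have h1 : closure ({η, σ} : Set Pi0) ≤ CM N (rr η σ k) := by
      rw [closure_le]
      rintro z (rfl | rfl)
      · exact comm_symm (le_sup_right (a := zpowers (rr z σ (k + 1))) (hr k (by omega)))
      · exact comm_symm (le_sup_left (b := F (k + 1 + 3)) (mem_zpowers (rr η z (k + 1))))
    rw [Subgroup.lowerCentralSeries_succ, Subgroup.commutator_le]
    intro a ha b hb
    have h2 : zpowers (rr η σ k) ⊔ F (k + 3) ≤ CM N b := by
      apply sup_le
      · rw [zpowers_le]; exact comm_symm (mem_CM.1 (h1 hb))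
      · intro x hx
        exact le_sup_right (a := zpowers (rr η σ (k + 1))) (hFc _ x hx b)
    exact h2 (ih ha)

theorem lcs_two_top (F : ℕ → Subgroup Pi0) (hF : Antitone F) (hFc : ∀ i x, x ∈ F i → ∀ g : Pi0, ⁅x, g⁆ ∈ F (i + 1))
    (hF1 : F 1 = ⊤) {σ η : Pi0} (q : ℕ) (hr : ∀ k, k < q → ⁅rr η σ k, η⁆ ∈ F (k + 4)) (hbot : F (q + 4) = ⊥) {d : Pi0}
    (hd : d ∈ (closure ({η, σ} : Set Pi0)).lowerCentralSeries (q + 2)) :
    ∃ i j : ℤ, d = rr η σ (q + 1) ^ i * ⁅rr η σ q, η⁆ ^ j := by
  have hFc' : ∀ i x, x ∈ F i → ∀ g : Pi0, ⁅g, x⁆ ∈ F (i + 1) := by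
    intro i x hx g
    rw [← commutatorElement_inv]; exact inv_mem (hFc i x hx g)
  have hrF : ∀ k, rr η σ k ∈ F (k + 2) := by
    intro k
    induction k with
    | zero => exact hFc 1 _ (by rw [hF1]; exact mem_top _) _
    | succ k ih => exact hFc _ _ ih _
  have h0 := lcs_two F hF hFc hF1 q hr q le_rfl
  set t := ⁅rr η σ q, η⁆ with ht
  have htF : t ∈ F (q + 3) := hFc _ _ (hrF q) _
  haveI hNt : (zpowers t).Normal := normal_between (A := F (q + 3)) (B := ⊥) (fun x hx g => by
    have := hFc' _ x hx g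
    rwa [show q + 3 + 1 = q + 4 by omega, hbot] at this) bot_le ((zpowers_le).2 htF)
  set N := zpowers (rr η σ (q + 1)) ⊔ zpowers t with hNdef
  haveI hN : N.Normal := normal_between (A := F (q + 3)) (B := ⊥) (fun x hx g => by
    have := hFc' _ x hx g
    rwa [show q + 3 + 1 = q + 4 by omega, hbot] at this) bot_le
      (sup_le ((zpowers_le).2 (hrF (q + 1))) ((zpowers_le).2 htF))
  have h1 : closure ({η, σ} : Set Pi0) ≤ CM N (rr η σ q) := by
    rw [closure_le]
    rintro z (rfl | rfl)
    · exact comm_symm (le_sup_right (a := zpowers (rr z σ (q + 1))) (mem_zpowers _))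
    · exact comm_symm (le_sup_left (b := zpowers t) (mem_zpowers (rr η z (q + 1))))
  have h3 : (closure ({η, σ} : Set Pi0)).lowerCentralSeries (q + 1 + 1) ≤ N := by
    rw [Subgroup.lowerCentralSeries_succ, Subgroup.commutator_le]
    intro a ha b hb
    have h2 : zpowers (rr η σ q) ⊔ F (q + 3) ≤ CM N b := by
      apply sup_le
      · rw [zpowers_le]; exact comm_symm (mem_CM.1 (h1 hb))
      · intro x hx
        have := hFc _ x hx b
        rw [show q + 3 + 1 = q + 4 by omega, hbot, mem_bot] at this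
        show ⁅x, b⁆ ∈ N
        rw [this]; exact one_mem _
    exact h2 (h0 ha)
  have h4 := h3 hd
  rw [hNdef, mem_sup_of_normal_right] at h4
  obtain ⟨a, ha, b, hb, hab⟩ := h4
  obtain ⟨i, rfl⟩ := mem_zpowers_iff.1 ha
  obtain ⟨j, rfl⟩ := mem_zpowers_iff.1 hb
  exact ⟨i, j, hab.symm⟩

end TwoGen

/-! ### the wreath product -/

section Wreath

variable (p : ℕ) [hp : Fact p.Prime]

/-- the cyclic group of order `p` -/
abbrev Cp := Multiplicative (ZMod p)

/-- the wreath product -/
abbrev Wr := RegularWreathProduct (Cp p) (Cp p)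

/-- generator -/
def gg : Cp p := Multiplicative.ofAdd 1

theorem gg_pow (n : ℕ) : gg p ^ n = Multiplicative.ofAdd (n : ZMod p) := by
  rw [gg, ← ofAdd_nsmul, nsmul_one]

open Classical in
/-- base element -/
noncomputable def yW : Wr p := ⟨Pi.mulSingle 1 (gg p), 1⟩

/-- top element -/
def sW : Wr p := RegularWreathProduct.inl (gg p)

theorem card_Wr : Nat.card (Wr p) = p ^ (p + 1) := by
  rw [RegularWreathProduct.card]
  have : Nat.card (Cp p) = p := by
    rw [Nat.card_congr Multiplicative.toAdd, Nat.card_zmod]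
  rw [this, pow_succ]

instance : Finite (Wr p) := by
  apply Nat.finite_of_card_ne_zero
  rw [card_Wr]; exact pow_ne_zero _ hp.out.ne_zero

theorem Cp_pow (x : Cp p) : x ^ p = 1 := by
  have : x ^ p = Multiplicative.ofAdd ((p : ℕ) • x.toAdd) := by rw [ofAdd_nsmul]; rfl
  rw [this, nsmul_eq_mul, CharP.cast_eq_zero, zero_mul]; rfl

theorem base_comm {a b : Wr p} (ha : a.right = 1) (hb : b.right = 1) : ⁅a, b⁆ = 1 := by
  rw [commutatorElement_eq_one_iff_mul_comm]
  refine RegularWreathProduct.ext ?_ ?_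
  · funext x
    simp [ha, hb, mul_comm]
  · simp [ha, hb]

theorem base_pow {a : Wr p} (ha : a.right = 1) (n : ℕ) : (a ^ n).right = 1 ∧ (a ^ n).left = a.left ^ n := by
  induction n with
  | zero => simp
  | succ n ih =>
    rw [pow_succ, RegularWreathProduct.mul_right, RegularWreathProduct.mul_left, ih.1, ih.2, ha]
    refine ⟨by simp, ?_⟩
    funext x
    simp [pow_succ]

theorem base_exp {a : Wr p} (ha : a.right = 1) : a ^ p = 1 := by
  have h := base_pow p ha p
  refine RegularWreathProduct.ext ?_ h.1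
  rw [h.2]
  funext x
  rw [Pi.pow_apply]
  exact Cp_pow p _

theorem sW_pow : sW p ^ p = 1 := by
  rw [sW, ← map_pow, Cp_pow, map_one]

theorem norm_left (n : ℕ) (x : Cp p) : ((yW p * sW p) ^ n).left x =
    ∏ i ∈ Finset.range n, (yW p).left ((gg p ^ i)⁻¹ * x) ∧ ((yW p * sW p) ^ n).right = gg p ^ n := by
  induction n generalizing x with
  | zero => simp
  | succ n ih =>
    rw [pow_succ, RegularWreathProduct.mul_left, RegularWreathProduct.mul_right]
    refine ⟨?_, ?_⟩
    · rw [Pi.mul_apply, (ih x).1, (ih x).2, Finset.prod_range_succ]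
      congr 1
      have h1 : (yW p).right = 1 := rfl
      have h2 : (sW p).left = 1 := rfl
      rw [RegularWreathProduct.mul_left, h1, h2]
      simp
    · rw [(ih 1).2, RegularWreathProduct.mul_right]
      have h1 : (yW p).right = 1 := rfl
      have h2 : (sW p).right = gg p := rfl
      rw [h1, h2, one_mul, pow_succ]

theorem norm_ne : (yW p * sW p) ^ p ≠ 1 := by
  classical
  intro h
  have h1 := (norm_left p p 1).1
  rw [h, RegularWreathProduct.one_left, Pi.one_apply] at h1
  rw [Finset.prod_eq_single 0] at h1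
  · have h2 : (yW p).left ((gg p ^ 0)⁻¹ * 1) = gg p := by
      simp [yW]
    rw [h2] at h1
    have h3 : (0 : ZMod p) = 1 := congrArg Multiplicative.toAdd h1
    exact zero_ne_one h3
  · intro i hi hi0
    rw [Finset.mem_range] at hi
    have h2 : (gg p ^ i)⁻¹ * 1 ≠ 1 := by
      intro h3
      rw [mul_one, inv_eq_one, gg_pow] at h3
      have h4 : ((i : ℕ) : ZMod p) = 0 := congrArg Multiplicative.toAdd h3
      rw [ZMod.natCast_eq_zero_iff] at h4
      exact hi0 (Nat.eq_zero_of_dvd_of_lt h4 hi)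
    show (Pi.mulSingle (1 : Cp p) (gg p) : Cp p → Cp p) ((gg p ^ i)⁻¹ * 1) = 1
    exact Pi.mulSingle_eq_of_ne h2 _
  · intro h2
    exact absurd (Finset.mem_range.2 hp.out.pos) h2

theorem rr_base (k : ℕ) : (rr (yW p) (sW p) k).right = 1 := by
  have hc : ∀ a b : Wr p, (⁅a, b⁆ : Wr p).right = 1 := by
    intro a b
    have : (⁅a, b⁆ : Wr p).right = ⁅a.right, b.right⁆ := by
      simp [commutatorElement_def]
    rw [this, commutatorElement_eq_one_iff_mul_comm, mul_comm]
  cases k with
  | zero => exact hc _ _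
  | succ k => exact hc _ _

end Wreath

end H57.Mc
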