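import Cfsg.Agent.Lib.H57.Mc7

/-!
A group of maximal class and order `p^(p+1)` does not have exponent `p` (`p` odd).
-/

set_option autoImplicit false

namespace H57.Mc

open Subgroup H67.HallPetrescu
open scoped commutatorElement

section

variable {G : Type*} [Group G] {s : G}

theorem rr_memK (y s : G) (k : ℕ) : rr y s k ∈ lcsF G (k + 2) := by
  induction k with
  | zero => exact comm_memK' (i := 1) (by rw [K_one]; exact mem_top _) _
  | succ k ih => exact comm_memK' ih s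

/-- the commutator with `s` is additive -/
theorem comm_add {j : ℕ} (hj : 1 ≤ j) {a b : G} (ha : a ∈ lcsF G j) (hb : b ∈ lcsF G j) (hab : a * b ∈ lcsF G (j + 1)) :
    ⁅a, s⁆ * ⁅b, s⁆ ∈ lcsF G (j + 2) := by
  have h1 : ⁅a, s⁆ * ⁅b, s⁆ = (⁅⁅a, s⁆, ⁅b, s⁆⁆ * ⁅a, ⁅b, s⁆⁆⁻¹) * ⁅a * b, s⁆ := by
    simp only [commutatorElement_def]; group
  rw [h1]
  refine mul_mem (mul_mem ?_ (inv_mem ?_)) (comm_memK' hab s)
  · exact K_anti (by omega) (comm_memK (comm_memK' ha s) (comm_memK' hb s))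
  · exact K_anti (by omega) (comm_memK ha (comm_memK' hb s))

theorem rr_inv (y s : G) (k : ℕ) : rr y⁻¹ s k * rr y s k ∈ lcsF G (k + 3) := by
  induction k with
  | zero =>
    exact comm_add (j := 1) le_rfl (by rw [K_one]; exact mem_top _) (by rw [K_one]; exact mem_top _)
      (by rw [inv_mul_cancel]; exact one_mem _)
  | succ k ih => exact comm_add (by omega) (rr_memK _ _ _) (rr_memK _ _ _) ih

theorem comm_inv_inv {a y z b : G} (hz : ∀ g, g * z = z * g) (hc : ∀ g, g * ⁅a, y⁆ = ⁅a, y⁆ * g) (hb : b * a = z) :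
    ⁅b, y⁻¹⁆ = ⁅a, y⁆ := by
  have hb' : b = z * a⁻¹ := by rw [← hb]; group
  have h1 : ⁅b, y⁻¹⁆ = a⁻¹ * y⁻¹ * a * y := by
    rw [hb', commutatorElement_def]
    have h2 := hz (a⁻¹ * y⁻¹ * a)
    calc z * a⁻¹ * y⁻¹ * (z * a⁻¹)⁻¹ * y⁻¹⁻¹ = (z * (a⁻¹ * y⁻¹ * a)) * z⁻¹ * y := by group
      _ = (a⁻¹ * y⁻¹ * a * z) * z⁻¹ * y := by rw [h2]
      _ = a⁻¹ * y⁻¹ * a * y := by group
  rw [h1]
  have h2 := hc (a⁻¹ * y⁻¹)
  calc a⁻¹ * y⁻¹ * a * y = (a⁻¹ * y⁻¹ * ⁅a, y⁆) * y * a := by rw [commutatorElement_def]; group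
    _ = (⁅a, y⁆ * (a⁻¹ * y⁻¹)) * y * a := by rw [h2]
    _ = ⁅a, y⁆ := by group

end

variable {G : Type*} [Group G] [Finite G] {p n : ℕ} [hp : Fact p.Prime]

theorem MC.rr_not_mem (h : MC p n G) (hn : 4 ≤ n) {s y : G} (hs : Unif n s) (hy : y ∈ TC G 2) (hy' : y ∉ lcsF G 2) :
    ∀ k, k + 3 ≤ n → rr y s k ∉ lcsF G (k + 3) := by
  intro k
  induction k with
  | zero => intro _; exact h.stepP hn (hs 2 le_rfl (by omega)) hy hy'
  | succ k ih =>
    intro hk
    exact h.step (i := k + 2) (by omega) (by omega) (hs _ (by omega) (by omega)) (rr_memK _ _ _) (ih (by omega))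

theorem MC.not_exp (h3 : 3 ≤ p) (h : MC p (p + 1) G) (he : ∀ x : G, x ^ p = 1) : False := by
  classical
  obtain ⟨q, rfl⟩ : ∃ q, p = q + 3 := ⟨p - 3, by omega⟩
  obtain ⟨s, hs⟩ := h.exists_unif (by omega) h3
  obtain ⟨y, hy, hy'⟩ := h.exists_P1 (by omega)
  have hb := h.blackburn (by omega) h3
  set p := q + 3 with hpdef
  let W := Wr p
  have hWbot : lcsF W (p + 1) = ⊥ := by
    have h1 := H3.MaxClassP.nilpotencyClass_le (p := p) (n := p + 1) (by omega) (card_Wr p)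
    haveI : Group.IsNilpotent W := (IsPGroup.of_card (card_Wr p)).isNilpotent
    show (⊤ : Subgroup W).lowerCentralSeries (p + 1 - 1) = ⊥
    exact Subgroup.lowerCentralSeries_eq_bot_iff_nilpotencyClass_le.2 h1
  have hGbot : lcsF G (p + 1) = ⊥ := h.K_n (by omega) le_rfl
  -- the product
  let F : ℕ → Subgroup (G × G × W) := fun i => (lcsF G i).prod ((lcsF G i).prod (lcsF W i))
  have hFa : Antitone F := by
    intro i j hij x hx
    exact ⟨K_anti hij hx.1, K_anti hij hx.2.1, K_anti hij hx.2.2⟩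
  have hFc : ∀ i x, x ∈ F i → ∀ g : G × G × W, ⁅x, g⁆ ∈ F (i + 1) := by
    intro i x hx g
    exact ⟨comm_memK' hx.1 _, comm_memK' hx.2.1 _, comm_memK' hx.2.2 _⟩
  have hF1 : F 1 = ⊤ := by
    rw [eq_top_iff]; intro x _
    exact ⟨mem_top _, mem_top _, mem_top _⟩
  let σ : G × G × W := (s, s, sW p)
  let η : G × G × W := (y, y⁻¹, yW p)
  have hrr : ∀ k, rr η σ k = (rr y s k, rr y⁻¹ s k, rr (yW p) (sW p) k) := by
    intro k
    induction k with
    | zero => rfl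
    | succ k ih =>
      show ⁅rr η σ k, σ⁆ = _
      rw [ih]; rfl
  have hWc : ∀ k, ⁅rr (yW p) (sW p) k, yW p⁆ = 1 := fun k => base_comm p (rr_base p k) rfl
  have hr : ∀ k, k < q → ⁅rr η σ k, η⁆ ∈ F (k + 4) := by
    intro k hk
    rw [hrr]
    have hTC := hb.1 (k + 2) (by omega) (by omega)
    refine ⟨hTC hy _ (rr_memK _ _ _), hTC (inv_mem hy) _ (rr_memK _ _ _), ?_⟩
    show ⁅rr (yW p) (sW p) k, yW p⁆ ∈ _
    rw [hWc]; exact one_mem _
  have hbot : F (q + 4) = ⊥ := by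
    rw [eq_bot_iff]
    rintro ⟨a, b, c⟩ ⟨ha, hb, hc⟩
    have e : q + 4 = p + 1 := by omega
    simp only [e, hGbot, hWbot, SetLike.mem_coe, mem_bot] at ha hb hc
    have ha : a = 1 := ha
    have hb : b = 1 := hb
    have hc : c = 1 := hc
    rw [ha, hb, hc]; rfl
  -- Hall's collecting formula
  obtain ⟨w, hw, d, hd, hwd⟩ := pow_prime hp.out η σ
  have hηp : η ^ p = 1 := by
    show (y ^ p, y⁻¹ ^ p, yW p ^ p) = 1
    rw [he, he, base_exp p rfl]; rfl
  have hσp : σ ^ p = 1 := by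
    show (s ^ p, s ^ p, sW p ^ p) = 1
    rw [he, sW_pow]; rfl
  have hw1 : w = 1 := by
    have h1 : Cfsg.powerClosure p 1 ⁅closure ({η, σ} : Set (G × G × W)), closure ({η, σ} : Set (G × G × W))⁆ ≤ ⊥ := by
      unfold Cfsg.powerClosure
      rw [closure_le]
      rintro _ ⟨x, hx, rfl⟩
      rw [pow_one]
      have hx3 : x.2.2.right = 1 := by
        have hle : ⁅closure ({η, σ} : Set (G × G × W)), closure ({η, σ} : Set (G × G × W))⁆ ≤
            ((RegularWreathProduct.rightHom (D := Cp p) (Q := Cp p)).comp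
              ((MonoidHom.snd G W).comp (MonoidHom.snd G (G × W)))).ker := by
          rw [Subgroup.commutator_le]
          intro a _ b _
          rw [MonoidHom.mem_ker, map_commutatorElement, commutatorElement_eq_one_iff_mul_comm, mul_comm]
        exact hle hx
      show (x.1 ^ p, x.2.1 ^ p, x.2.2 ^ p) = 1
      rw [he, he, base_exp p hx3]; rfl
    exact mem_bot.1 (h1 hw)
  rw [hηp, hσp, hw1, mul_one, mul_one] at hwd
  have hd' : d = ((η * σ) ^ p)⁻¹ := eq_inv_of_mul_eq_one_right hwd.symm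
  obtain ⟨i, j, hij⟩ := lcs_two_top F hFa hFc hF1 q hr hbot (d := d) (by
    rw [show q + 2 = p - 1 by omega]; exact hd)
  rw [hd', hrr, hrr] at hij
  set u := rr y s (q + 1) with hu
  set v := ⁅rr y s q, y⁆ with hv
  have hu' : rr y⁻¹ s (q + 1) = u⁻¹ := by
    have h1 := rr_inv y s (q + 1)
    rw [show q + 1 + 3 = p + 1 by omega, hGbot, mem_bot] at h1
    exact eq_inv_of_mul_eq_one_left h1
  have hcen : ∀ x ∈ lcsF G p, ∀ g, g * x = x * g := by
    intro x hx g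
    exact h.central (by omega) (by rwa [show p + 1 - 1 = p by omega]) g
  have hv' : ⁅rr y⁻¹ s q, y⁻¹⁆ = v := by
    refine comm_inv_inv (z := rr y⁻¹ s q * rr y s q) (hcen _ ?_) (hcen _ ?_) rfl
    · have := rr_inv y s q
      rwa [show q + 3 = p by omega] at this
    · have := comm_memK' (rr_memK y s q) y
      rwa [show q + 2 + 1 = p by omega] at this
  have e1 : (((η * σ) ^ p)⁻¹ : G × G × W).1 = u ^ i * v ^ j := congrArg (fun z : G × G × W => z.1) hij
  have e2 : (((η * σ) ^ p)⁻¹ : G × G × W).2.1 = (rr y⁻¹ s (q + 1)) ^ i * (⁅rr y⁻¹ s q, y⁻¹⁆) ^ j :=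
    congrArg (fun z : G × G × W => z.2.1) hij
  have e3 : (((η * σ) ^ p)⁻¹ : G × G × W).2.2 = (rr (yW p) (sW p) (q + 1)) ^ i * (⁅rr (yW p) (sW p) q, yW p⁆) ^ j :=
    congrArg (fun z : G × G × W => z.2.2) hij
  have f1 : (((η * σ) ^ p)⁻¹ : G × G × W).1 = 1 := by
    show ((y * s) ^ p)⁻¹ = 1
    rw [he, inv_one]
  have f2 : (((η * σ) ^ p)⁻¹ : G × G × W).2.1 = 1 := by
    show ((y⁻¹ * s) ^ p)⁻¹ = 1
    rw [he, inv_one]
  have f3 : (((η * σ) ^ p)⁻¹ : G × G × W).2.2 = ((yW p * sW p) ^ p)⁻¹ := rfl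
  rw [f1] at e1
  rw [f2, hu', hv'] at e2
  rw [f3, hWc, one_zpow, mul_one] at e3
  have hu1 : u ≠ 1 := by
    intro h1
    have h2 := h.rr_not_mem (by omega) hs hy hy' (q + 1) (by omega)
    rw [← hu, h1] at h2
    exact h2 (one_mem _)
  have hup : orderOf u = p := orderOf_eq_prime (he u) hu1
  have hu2 : u ^ (2 * i) = 1 := by
    have g1 : u ^ i = (v ^ j)⁻¹ := eq_inv_of_mul_eq_one_left e1.symm
    have g2 : u⁻¹ ^ i = (v ^ j)⁻¹ := eq_inv_of_mul_eq_one_left e2.symm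
    rw [two_mul, zpow_add]
    nth_rewrite 1 [g1]
    rw [← g2, inv_zpow, inv_mul_cancel]
  have hdvd : (p : ℤ) ∣ 2 * i := by
    have := orderOf_dvd_iff_zpow_eq_one.2 hu2
    rwa [hup] at this
  have hdvd' : (p : ℤ) ∣ i := by
    have hcop : IsCoprime (p : ℤ) 2 := by
      rw [Int.isCoprime_iff_gcd_eq_one]
      have : Nat.Coprime p 2 := by
        rw [Nat.coprime_primes hp.out Nat.prime_two]; omega
      exact_mod_cast this
    exact hcop.dvd_of_dvd_mul_left hdvd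
  obtain ⟨m, rfl⟩ := hdvd'
  rw [zpow_mul, zpow_natCast, base_exp p (rr_base p _), one_zpow, inv_eq_one] at e3
  exact norm_ne p e3

end H57.Mc
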