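import Mathlib
import Cfsg.Agent.Lib.H31.FT3Q

set_option autoImplicit false

/-! S3330 (helper54), piece cuV: abstract part. -/

open Equiv Subgroup

namespace H57.RCV

universe u

lemma card_a5 : Nat.card (alternatingGroup (Fin 5)) = 60 := by
  rw [nat_card_alternatingGroup]
  simp only [Nat.card_eq_fintype_card, Fintype.card_fin]
  rfl

theorem absV (h7 : Nat.card (Matrix.ProjectiveSpecialLinearGroup (Fin 2) (ZMod 7)) = 168)
    {C : Type u} [Group C] [Finite C] (V : Subgroup C) (hVc : V ≤ center C) (hV2 : ∀ v ∈ V, v * v = 1)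
    (α : alternatingGroup (Fin 5) →* C) (hα : ∀ a, α a ∈ V → a = 1)
    (d : alternatingGroup (Fin 5)) (hd3 : d ^ 3 = 1) (hd1 : d ≠ 1)
    (hz : ∀ c : C, c * α d = α d * c → ∃ v ∈ V, ∃ k : ℕ, c = v * α d ^ k)
    (hS : ∀ y : C, y ^ 4 = 1 → ∃ c : C, ∃ v ∈ V, ∃ a, c * y * c⁻¹ = v * α a) :
    ∀ c : C, ∃ v ∈ V, ∃ a, c = v * α a := by
  haveI hVn : V.Normal := ⟨fun v hv g => by
    have := mem_center_iff.1 (hVc hv) g
    rw [this, mul_inv_cancel_right]; exact hv⟩
  let β : alternatingGroup (Fin 5) →* C ⧸ V := (QuotientGroup.mk' V).comp α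
  have hβ : Function.Injective β := by
    rw [injective_iff_map_eq_one]
    intro a ha
    exact hα a ((QuotientGroup.eq_one_iff _).1 ha)
  have hz3 : (β d) ^ 3 = 1 := by rw [← map_pow, hd3, map_one]
  have hz1 : β d ≠ 1 := fun h => hd1 (hβ (by rw [h, map_one]))
  have hzo : orderOf (β d) = 3 := orderOf_eq_prime hz3 hz1
  have hcard3 : Nat.card (zpowers (β d)) = 3 := by rw [Nat.card_zpowers, hzo]
  have hcent : centralizer (zpowers (β d) : Set (C ⧸ V)) = zpowers (β d) := by
    apply le_antisymm
    · intro g hg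
      obtain ⟨c, rfl⟩ := QuotientGroup.mk_surjective g
      have h1 : β d * c = c * β d := mem_centralizer_iff.1 hg _ (mem_zpowers _)
      have h2 : ((α d * c : C) : C ⧸ V) = (c * α d : C) := h1
      rw [QuotientGroup.eq] at h2
      set v := (α d * c)⁻¹ * (c * α d) with hv
      have h3 : c * α d * c⁻¹ = α d * (c * v * c⁻¹) := by rw [hv]; group
      have hvz : c * v * c⁻¹ = v := by
        have := mem_center_iff.1 (hVc h2) c
        rw [this, mul_inv_cancel_right]
      rw [hvz] at h3
      have h4 : (c * α d * c⁻¹) ^ 3 = 1 := by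
        rw [conj_pow, ← map_pow, hd3, map_one]; group
      have hcm : Commute (α d) v := mem_center_iff.1 (hVc h2) (α d)
      rw [h3, hcm.mul_pow, ← map_pow, hd3, map_one, one_mul, pow_succ, pow_two, hV2 v h2, one_mul] at h4
      rw [h4, mul_one] at h3
      obtain ⟨w, hw, k, hk⟩ := hz c (by
        calc c * α d = (c * α d * c⁻¹) * c := by group
          _ = α d * c := by rw [h3])
      have h5 : (c : C ⧸ V) = (β d) ^ k := by
        rw [hk]
        show (QuotientGroup.mk' V) (w * α d ^ k) = ((QuotientGroup.mk' V) (α d)) ^ k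
        rw [map_mul, map_pow]
        have : (QuotientGroup.mk' V) w = 1 := (QuotientGroup.eq_one_iff w).2 hw
        rw [this, one_mul]
      rw [h5]
      exact Subgroup.pow_mem _ (mem_zpowers _) _
    · intro g hg
      rw [mem_centralizer_iff]
      intro x hx
      obtain ⟨a, rfl⟩ := mem_zpowers_iff.1 hg
      obtain ⟨b, rfl⟩ := mem_zpowers_iff.1 hx
      rw [← zpow_add, ← zpow_add, add_comm]
  have hsimp : ∀ N : Subgroup (C ⧸ V), N.Normal → (∀ x ∈ N, x = β d → False) → ∀ a, β a ∈ N → a = 1 := by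
    intro N hN h1 a ha
    haveI := hN
    haveI : (N.comap β).Normal := inferInstance
    rcases (inferInstance : (N.comap β).Normal).eq_bot_or_eq_top with h2 | h2
    · have : a ∈ N.comap β := ha
      rwa [h2, mem_bot] at this
    · exfalso
      have : d ∈ N.comap β := by rw [h2]; exact mem_top _
      exact h1 _ this rfl
  rcases H31.FT3.main_quot _ hcard3 hcent with ⟨N, hN, -, hcop, hq⟩ | ⟨N, hN, -, hN2, ⟨e⟩⟩ | ⟨⟨e⟩⟩
  · exfalso
    have h1 := hsimp N hN (fun x hx hxd => by
      rw [hxd] at hx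
      have h4 := Subgroup.orderOf_dvd_natCard N hx
      rw [hzo] at h4
      have := Nat.Coprime.eq_one_of_dvd hcop.symm h4
      norm_num at this)
    have h2 : Function.Injective ((QuotientGroup.mk' N).comp β) := by
      rw [injective_iff_map_eq_one]
      intro a ha
      exact h1 a ((QuotientGroup.eq_one_iff _).1 ha)
    have h3 := Nat.card_le_card_of_injective _ h2
    rw [card_a5] at h3
    rcases hq with hq | ⟨⟨e⟩⟩
    · rw [hq] at h3; norm_num at h3
    · rw [Nat.card_congr e.toEquiv, Nat.card_perm, Nat.card_eq_fintype_card, Fintype.card_fin] at h3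
      norm_num [Nat.factorial] at h3
  · have h1 := hsimp N hN (fun x hx hxd => by
      have h4 := hN2 x hx
      rw [hxd] at h4
      have h5 := orderOf_dvd_of_pow_eq_one h4
      rw [hzo] at h5
      norm_num at h5)
    have hNb : N = ⊥ := by
      rw [eq_bot_iff]
      intro x hx
      rw [mem_bot]
      obtain ⟨y, rfl⟩ := QuotientGroup.mk_surjective x
      have h2 : (y ^ 2 : C) ∈ V := by
        rw [← QuotientGroup.eq_one_iff, QuotientGroup.mk_pow]; exact hN2 _ hx
      have h3 : y ^ 4 = 1 := by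
        rw [show (4 : ℕ) = 2 + 2 from rfl, pow_add]; exact hV2 _ h2
      obtain ⟨c, v, hv, a, ha⟩ := hS y h3
      have h4 : β a = (c : C ⧸ V) * y * (c : C ⧸ V)⁻¹ := by
        have h5 : (QuotientGroup.mk' V) (c * y * c⁻¹) = (QuotientGroup.mk' V) (v * α a) := by rw [ha]
        rw [map_mul, map_mul, map_mul, map_inv] at h5
        have : (QuotientGroup.mk' V) v = 1 := (QuotientGroup.eq_one_iff v).2 hv
        rw [this, one_mul] at h5
        exact h5.symm
      have h6 : a = 1 := h1 a (by rw [h4]; exact hN.conj_mem _ hx _)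
      rw [h6, map_one] at h4
      have h7 : (y : C ⧸ V) = (c : C ⧸ V)⁻¹ * ((c : C ⧸ V) * y * (c : C ⧸ V)⁻¹) * c := by group
      rw [h7, ← h4]; group
    have hcard : Nat.card (C ⧸ V) = 60 := by
      have h2 : Nat.card (C ⧸ V) = Nat.card ((C ⧸ V) ⧸ N) * Nat.card N := N.card_eq_card_quotient_mul_card_subgroup
      rw [h2, hNb, Subgroup.card_bot, mul_one, ← card_a5]
      subst hNb
      exact Nat.card_congr e.toEquiv
    have hsur : Function.Surjective β := by
      have : Function.Bijective β := (Nat.bijective_iff_injective_and_card β).2 ⟨hβ, by rw [card_a5, hcard]⟩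
      exact this.2
    intro c
    obtain ⟨a, ha⟩ := hsur (c : C ⧸ V)
    have h2 : ((α a : C) : C ⧸ V) = c := ha
    rw [QuotientGroup.eq] at h2
    refine ⟨(α a)⁻¹ * c, h2, a, ?_⟩
    have := mem_center_iff.1 (hVc h2) (α a)
    rw [← this]; group
  · exfalso
    have h2 : 60 ∣ 168 := by
      rw [← h7, ← Nat.card_congr e.toEquiv, ← card_a5, Nat.card_congr (MonoidHom.ofInjective hβ).toEquiv]
      exact card_subgroup_dvd_card _
    norm_num at h2

end H57.RCV
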