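import Cfsg.Agent.Lib.H57.Small7

/-!
Abelian groups of order `p⁴` and rank three.
-/

set_option autoImplicit false
open Cfsg H57.Ess

namespace H57.Small

variable {V : Type*} [Group V] [Finite V] {p : ℕ} [hp : Fact p.Prime]

theorem elem_iso (hcomm : ∀ a b : V, a * b = b * a) (hexp : ∀ x : V, x ^ p = 1) (hV : Nat.card V = p ^ 2) :
    Nonempty (V ≃* Multiplicative (ZMod p × ZMod p)) := by
  have htop : tor hcomm p = ⊤ := by
    rw [eq_top_iff]; intro x _; exact hexp x
  have h1 := homocyclic_iso (p := p) hcomm (b := 0) (fun x => by rw [zero_add, pow_one]; exact hexp x)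
    (fun x _ => ⟨x, by rw [pow_zero, pow_one]⟩) (by rw [htop, Subgroup.card_top, hV]) (by rw [hV])
  rwa [show p ^ (0 + 1) = p by rw [zero_add, pow_one]] at h1

theorem rank_three (hcomm : ∀ a b : V, a * b = b * a) (hc : Nat.card V = p ^ 4)
    (ht : Nat.card (tor hcomm p) = p ^ 3) :
    Nonempty (V ≃* Multiplicative (ZMod (p ^ 2) × ZMod p × ZMod p)) := by
  have hV : IsPGroup p V := IsPGroup.of_card hc
  have h1 : ∃ a : V, a ^ p ≠ 1 := by
    by_contra hne
    push_neg at hne
    have htop : tor hcomm p = ⊤ := by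
      rw [eq_top_iff]; intro x _; exact hne x
    rw [htop, Subgroup.card_top, hc] at ht
    exact absurd (Nat.pow_right_injective hp.out.two_le ht) (by norm_num)
  obtain ⟨a, ha⟩ := h1
  have hpw : Nat.card (pw hcomm p) = p := by
    have h2 := Subgroup.card_mul_index (pwHom hcomm p).ker
    rw [Subgroup.index_ker] at h2
    have h3 : Nat.card (tor hcomm p) * Nat.card (pw hcomm p) = Nat.card V := h2
    rw [ht, hc, pow_succ p 3] at h3
    exact Nat.eq_of_mul_eq_mul_left (pow_pos hp.out.pos 3) h3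
  have haT : a ^ p ∈ tor hcomm p := by
    have h2 : (⟨a ^ p, ⟨a, rfl⟩⟩ : pw hcomm p) ^ Nat.card (pw hcomm p) = 1 := pow_card_eq_one'
    rw [hpw] at h2
    exact congrArg Subtype.val h2
  have ha1 : a ^ p ^ (1 + 1) = 1 := by
    rw [pow_succ, pow_one, pow_mul]; exact haT
  have ha2 : a ^ p ^ 1 ≠ 1 := by rw [pow_one]; exact ha
  -- complement
  have hTp : IsPGroup p (tor hcomm p) := hV.to_subgroup _
  have hTc : ∀ x y : tor hcomm p, x * y = y * x := fun x y => Subtype.ext (hcomm x y)
  obtain ⟨W0, -, hW0i, hW0⟩ := exists_coatom_not_mem (V := tor hcomm p) hTp (N := ⊥)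
    (by
      rw [commutator_def, Subgroup.commutator_le]
      intro x _ y _
      show x * y * x⁻¹ * y⁻¹ ∈ (⊥ : Subgroup (tor hcomm p))
      rw [hTc x y, mul_inv_cancel_right, mul_inv_cancel]; exact one_mem _)
    (fun x => by
      rw [Subgroup.mem_bot]; exact Subtype.ext x.2)
    (w := ⟨a ^ p, haT⟩) (by
      rw [Subgroup.mem_bot]
      intro h; exact ha (congrArg Subtype.val h))
  set W : Subgroup V := W0.map (tor hcomm p).subtype with hW
  have hWT : W ≤ tor hcomm p := Subgroup.map_subtype_le _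
  have hWc : Nat.card W = p ^ 2 := by
    have h2 := Subgroup.card_mul_index W0
    rw [hW0i, ht, pow_succ p 2] at h2
    have h3 := Nat.eq_of_mul_eq_mul_right hp.out.pos h2
    rw [← h3]
    exact (Nat.card_congr (W0.equivMapOfInjective _ (tor hcomm p).subtype_injective).toEquiv).symm
  have haW : a ^ p ∉ W := by
    rintro ⟨⟨x, hx⟩, hx1, hx2⟩
    apply hW0
    have : (⟨a ^ p, haT⟩ : tor hcomm p) = ⟨x, hx⟩ := Subtype.ext hx2.symm
    rw [this]; exact hx1
  have hAn := normal_of_comm hcomm (Subgroup.zpowers a)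
  have hWn := normal_of_comm hcomm W
  have hint : Subgroup.zpowers a ⊓ W = ⊥ := by
    rw [eq_bot_iff]
    intro z hz
    rw [Subgroup.mem_bot]
    by_contra hz1
    have hzp : z ^ p = 1 := hWT hz.2
    have h3 := mem_zpowers_socle ha1 ha2 hz.1 hzp
    rw [pow_one] at h3
    have h4 : Subgroup.zpowers z = Subgroup.zpowers (a ^ p) :=
      Subgroup.eq_of_le_of_card_ge (Subgroup.zpowers_le.2 h3)
        (by rw [Nat.card_zpowers, Nat.card_zpowers, orderOf_eq_prime hzp hz1, orderOf_eq_prime haT ha])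
    have h5 : a ^ p ∈ Subgroup.zpowers z := by rw [h4]; exact Subgroup.mem_zpowers _
    exact haW ((Subgroup.zpowers_le.2 hz.2) h5)
  obtain ⟨e⟩ := prod_iso _ W hint (by
    rw [card_zpowers_of ha1 ha2, hWc, hc, ← pow_add])
  obtain ⟨e1⟩ := cyc_iso ha1 ha2
  obtain ⟨e2⟩ := elem_iso (V := W) (p := p) (fun x y => Subtype.ext (hcomm x y)) (fun x => Subtype.ext (hWT x.2)) hWc
  exact ⟨(e.trans (MulEquiv.prodCongr e1 e2)).trans (MulEquiv.prodMultiplicative _ _).symm⟩

end H57.Small
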